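import Cfsg.Agent.Lib.Grp.M22.D0

set_option autoImplicit false
set_option maxRecDepth 100000

namespace Cfsg.Agent.CG.M22

noncomputable def tabs : List ℕ := [t0,t1,t2,t3,t4,t5,t6,t7,t8,t9,t10,t11,t12,t13,t14,t15,t16,t17,t18,t19,t20,t21,t22,t23,t24,t25,t26,t27,t28,t29,t30,t31,t32,t33,t34,t35,t36,t37,t38,t39,t40,t41,t42,t43,t44,t45,t46,t47,t48,t49,t50,t51,t52,t53,t54,t55,t56,t57]
noncomputable abbrev app : ℕ → ℕ → ℕ := appT tabs t58 0xff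
noncomputable def slpL : List (Bool × List ℕ) := [(false,[]),
  (false,[]),
  (false,[]),
  (false,[0,2]),
  (true,[3]),
  (false,[1]),
  (true,[5]),
  (false,[5,5]),
  (false,[3]),
  (true,[8]),
  (false,[0,1,4,5,0,2,5,1,3,5,0,5,0,4,7,3,0,6,0,6,4,2,6,1,0,6,3,2,0]),
  (false,[10,9,10,9,10,9,10]),
  (true,[11]),
  (false,[8,10,12,10,8,11,9]),
  (true,[13]),
  (false,[12,14,10,14,11,8,12]),
  (true,[15]),
  (false,[9,15,8,15,10,14,12,10,16,14,15]),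
  (true,[17]),
  (false,[15,15,9,15,11,10,16,8,11,8]),
  (true,[19]),
  (false,[18,20,18,9,15,11,16,9,10,8,8,15,12]),
  (true,[21]),
  (false,[17,20,9,11,14,10,12,15,11,10,15]),
  (true,[23]),
  (false,[21,23,18,20,18,9,15,13,13,13,9,14,14,10,11]),
  (true,[25]),
  (false,[26,21,21,24,17,20,14,14,8,14,16,14,10,9,14,12]),
  (false,[24,21,19,19,9,15,9,9,13,8,13,15,10,14,9]),
  (false,[26,21,23,23,18,19,13,13,9,13,10,13,9,12,16,12]),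
  (false,[25,22,17,20,18,9,15,9,14,11,14,15,9,15,11,10]),
  (false,[27]),
  (false,[30,28,27]),
  (false,[28,27]),
  (false,[29,28,27]),
  (false,[25,29,28]),
  (true,[35]),
  (false,[21,26,30,29]),
  (false,[20,20,18,23,22,22,25,30,29,28]),
  (false,[16,8,17,20,17,25,30,28,27]),
  (false,[28]),
  (false,[30,29,28,27]),
  (false,[22,24,22,26,30,29,28]),
  (false,[15,8,17,19,18,22,24,21,29]),
  (false,[16,8,17,20,17,22,24,22,26,29,27]),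
  (false,[9,16,20,17,22,23,22,26,29,27]),
  (true,[45]),
  (false,[15,9,17,24,22,30,29,27]),
  (true,[47]),
  (false,[19,18,20,21,21,25,30,29,28]),
  (true,[49]),
  (false,[17,20,17,21,23,29,28]),
  (true,[51]),
  (false,[22,25,30,28]),
  (false,[24,21,23,26,29]),
  (false,[8,8]),
  (true,[55]),
  (false,[10,8,8,19,17,24,30,27])]
noncomputable def slp (a : ℕ) : Bool × List ℕ := nth slpL (false, []) a
noncomputable def invL : List ℕ := [0,2,1,4,3,6,5,7,9,8,10,12,11,14,13,16,15,18,17,20,19,22,21,24,23,26,25,27,28,29,30,31,32,33,34,36,35,37,38,39,40,41,42,43,44,46,45,48,47,50,49,52,51,53,54,56,55,57]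
noncomputable def inv (a : ℕ) : ℕ := nth invL 58 a
noncomputable def bs : List ℕ := [8,136,96,104,48]
noncomputable def mc0 : Lvl := ⟨8, [8,9,10,13,14,15,16], 22,
  fun i => look 0xff mc0c (Nat.mul 8 i), fun i => look 0xff mc0p (Nat.mul 8 i),
  fun i => look 255 mc0l (Nat.mul 8 i), fun i => look 255 mc0i (Nat.mul 8 i), fun x => look 0xff mc0q x, 3⟩
noncomputable def mc1 : Lvl := ⟨136, [17,18,19,20], 21,
  fun i => look 0xff mc1c (Nat.mul 8 i), fun i => look 0xff mc1p (Nat.mul 8 i),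
  fun i => look 255 mc1l (Nat.mul 8 i), fun i => look 255 mc1i (Nat.mul 8 i), fun x => look 0xff mc1q x, 3⟩
noncomputable def mc2 : Lvl := ⟨96, [21,22,23,24], 20,
  fun i => look 0xff mc2c (Nat.mul 8 i), fun i => look 0xff mc2p (Nat.mul 8 i),
  fun i => look 255 mc2l (Nat.mul 8 i), fun i => look 255 mc2i (Nat.mul 8 i), fun x => look 0xff mc2q x, 3⟩
noncomputable def mc3 : Lvl := ⟨104, [25,26], 3,
  fun i => look 0xff mc3c (Nat.mul 8 i), fun i => look 0xf mc3p (Nat.mul 4 i),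
  fun i => look 255 mc3l (Nat.mul 8 i), fun i => look 255 mc3i (Nat.mul 8 i), fun x => look 0xff mc3q x, 1⟩
noncomputable def mc4 : Lvl := ⟨48, [27,28,29,30], 16,
  fun i => look 0xff mc4c (Nat.mul 8 i), fun i => look 0xff mc4p (Nat.mul 8 i),
  fun i => look 255 mc4l (Nat.mul 8 i), fun i => look 255 mc4i (Nat.mul 8 i), fun x => look 0xff mc4q x, 4⟩
noncomputable def mc : List Lvl := [mc0, mc1, mc2, mc3, mc4]
noncomputable def tcR : List (List ℕ) := [[31,31],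
  [32,32],
  [33,33],
  [34,34],
  [31,32,31,32],
  [31,33,31,33],
  [31,34,31,34],
  [32,33,32,33],
  [32,34,32,34],
  [33,34,33,34],
  [35,36],
  [36,35],
  [35,35,35],
  [35,31,36,33],
  [36,31,35,31,33],
  [36,32,35,33,34],
  [35,32,36,32,33,34],
  [37,37],
  [37,34,37,34,37,34],
  [37,35,37,35,37,35],
  [37,31,37,31,37,31,37,31],
  [37,31,37,33,37,31,37,33],
  [37,35,34,35,37,31,32,33,36],
  [37,33,37,33,37,33,37,33],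
  [37,32,37,31,35,37,32,33,34],
  [37,33,37,32,37,33,37,31,32],
  [38,38],
  [38,32,38,32],
  [38,34,38,34],
  [38,33,38,32,33],
  [38,31,38,31,32,34],
  [38,35,38,31,32,35],
  [38,37,38,32,34,37,38,32,34,37,32,34],
  [39,39],
  [39,31,39,31],
  [39,34,39,34],
  [39,33,39,31,33],
  [39,36,39,33,36],
  [39,37,39,31,37,31],
  [39,38,39,38,39,34,38]]
noncomputable def tc0T : List ℕ := [0,0,0,0,0,0,0,0,0,0,0,0,0,0,0,0,0,0,0,0,0,0,0,0,0,0,0,0,0,0,0,tc0t31,tc0t32,tc0t33,tc0t34,tc0t35,tc0t36,tc0t37,tc0t38,tc0t39]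
noncomputable def tc0r : Tr Rule := (.node (.node (.node (.node (.node (.node (.node (.leaf ⟨39,[39],33,1⟩) (.leaf ⟨37,[34,37,34,37,34],18,2⟩)) (.leaf ⟨31,[37,33,37,31,37,33,37],21,5⟩)) (.node (.leaf ⟨35,[33,34,36,32],15,2⟩) (.leaf ⟨33,[34,33,34],9,0⟩))) (.node (.node (.node (.leaf ⟨35,[36],10,0⟩) (.leaf ⟨39,[31,33,39,33],36,2⟩)) (.leaf ⟨32,[33,32,33],7,0⟩)) (.node (.leaf ⟨32,[38,32,38],27,3⟩) (.leaf ⟨32,[34,37,32,34,38,37,38,32,34,37,38],32,7⟩)))) (.node (.node (.node (.node (.leaf ⟨32,[32],1,1⟩) (.leaf ⟨39,[34,38,39,38,39,38],39,4⟩)) (.leaf ⟨36,[31,35,31,33],14,0⟩)) (.node (.leaf ⟨37,[34,37,34,37,34],18,4⟩) (.leaf ⟨34,[36,32,35,33],15,4⟩))) (.node (.node (.node (.leaf ⟨33,[35,31,36],13,3⟩) (.leaf ⟨39,[31,39,31],34,2⟩)) (.leaf ⟨34,[32,34,32],8,3⟩)) (.node (.leaf ⟨37,[35,37,35,37,35],19,4⟩) (.leaf ⟨38,[32,38,32],27,2⟩)))))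 (.node (.node (.node (.node (.node (.leaf ⟨37,[37],17,1⟩) (.leaf ⟨38,[32,34,37,38,32,34,37,32,34,38,37],32,2⟩)) (.leaf ⟨31,[35,37,32,33,34,37,32,37],24,3⟩)) (.node (.leaf ⟨34,[39,34,39],35,3⟩) (.leaf ⟨32,[37,31,35,37,32,33,34,37],24,1⟩))) (.node (.node (.node (.leaf ⟨31,[33,31,33],5,2⟩) (.leaf ⟨39,[33,36,39,36],37,2⟩)) (.leaf ⟨34,[31,34,31],6,3⟩)) (.node (.leaf ⟨33,[38,32,33,38],29,1⟩) (.leaf ⟨31,[32,31,32],4,0⟩)))) (.node (.node (.node (.node (.leaf ⟨34,[34],3,1⟩) (.leaf ⟨39,[37,39,31,37,31],38,0⟩)) (.leaf ⟨35,[35,35],12,1⟩)) (.node (.leaf ⟨36,[39,36,39,33],37,4⟩) (.leaf ⟨32,[36,32,33,34,35],16,1⟩))) (.node (.node (.leaf ⟨33,[34,33,34],9,2⟩) (.leaf ⟨32,[34,32,34],8,0⟩)) (.node (.leaf ⟨33,[37,33,37,33,37,33,37],23,5⟩) (.leaf ⟨38,[31,32,34,38,31],30,2⟩)))))) (.node (.node (.node (.node (.node (.node (.leaf ⟨38,[38],26,1⟩)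 (.leaf ⟨38,[35,38,31,32,35],31,0⟩)) (.leaf ⟨34,[35,37,31,32,33,36,37,35],22,2⟩)) (.node (.leaf ⟨31,[39,31,39],34,3⟩) (.leaf ⟨35,[37,35,37,35,37],19,3⟩))) (.node (.node (.node (.leaf ⟨31,[32,31,32],4,2⟩) (.leaf ⟨39,[33,39,31,33],36,0⟩)) (.leaf ⟨34,[33,34,33],9,1⟩)) (.node (.leaf ⟨35,[38,31,32,35,38],31,1⟩) (.leaf ⟨34,[38,37,38,32,34,37,38,32,34,37,32],32,11⟩)))) (.node (.node (.node (.node (.leaf ⟨33,[33],2,1⟩) (.leaf ⟨39,[31,37,31,39,37],38,2⟩)) (.leaf ⟨36,[33,35,31],13,2⟩)) (.node (.leaf ⟨33,[39,33,39,31],36,4⟩) (.leaf ⟨34,[35,32,36,32,33],16,5⟩))) (.node (.node (.leaf ⟨32,[33,32,33],7,2⟩) (.leaf ⟨32,[34,32,34],8,2⟩)) (.node (.leaf ⟨33,[37,31,37,33,37,31,37],21,7⟩) (.leaf ⟨38,[33,38,32,33],29,0⟩))))) (.node (.node (.node (.node (.node (.leaf ⟨31,[31],0,1⟩) (.leaf ⟨38,[31,32,35,38,35],31,2⟩)) (.leaf ⟨32,[37,33,37,32,37,33,37,31],25,8⟩))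 (.node (.leaf ⟨34,[38,34,38],28,3⟩) (.leaf ⟨37,[32,37,33,37,31,32,37,33],25,2⟩))) (.node (.node (.node (.leaf ⟨31,[34,31,34],6,2⟩) (.leaf ⟨39,[36,39,33,36],37,0⟩)) (.leaf ⟨35,[31,36,33],13,0⟩)) (.node (.leaf ⟨31,[38,31,32,34,38],30,1⟩) (.leaf ⟨33,[32,33,32],7,3⟩)))) (.node (.node (.node (.node (.leaf ⟨36,[35],10,1⟩) (.leaf ⟨39,[34,39,34],35,2⟩)) (.leaf ⟨31,[33,31,33],5,0⟩)) (.node (.leaf ⟨32,[35,33,34,36],15,1⟩) (.leaf ⟨37,[31,39,37,39,31],38,4⟩))) (.node (.node (.leaf ⟨35,[35,35],12,2⟩) (.leaf ⟨31,[34,31,34],6,0⟩)) (.node (.leaf ⟨31,[37,31,37,31,37,31,37],20,5⟩) (.leaf ⟨38,[34,38,34],28,2⟩)))))))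
noncomputable def tc0 : TCL := ⟨[31,32,33,34,35,36,37,38,39], [31,32,33,34,35,36,37,38], 22, 24, 0x3ff, 10, 0x7f,
  fun a x => look 0xffffff (nth tc0T 0 a) x, fun x => look 0xffffff tc0d x, tc0r⟩
noncomputable def tc1T : List ℕ := [0,0,0,0,0,0,0,0,0,0,0,0,0,0,0,0,0,0,0,0,0,0,0,0,0,0,0,0,0,0,0,tc1t31,tc1t32,tc1t33,tc1t34,tc1t35,tc1t36,tc1t37,tc1t38]
noncomputable def tc1r : Tr Rule := (.node (.node (.node (.node (.node (.node (.leaf ⟨38,[38],26,1⟩) (.leaf ⟨36,[33,35,31],13,2⟩)) (.node (.leaf ⟨32,[38,32,38],27,3⟩) (.leaf ⟨33,[32,33,32],7,3⟩))) (.node (.node (.leaf ⟨31,[32,31,32],4,2⟩) (.leaf ⟨37,[32,37,33,37,31,32,37,33],25,2⟩)) (.node (.leaf ⟨31,[32,34,38,31,38],30,3⟩) (.leaf ⟨38,[32,34,37,38,32,34,37,32,34,38,37],32,2⟩)))) (.node (.node (.node (.leaf ⟨33,[33],2,1⟩) (.leaf ⟨34,[32,34,32],8,1⟩)) (.node (.leaf ⟨33,[37,31,37,33,37,31,37],21,7⟩)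 (.leaf ⟨38,[31,32,34,38,31],30,2⟩))) (.node (.node (.leaf ⟨32,[33,32,33],7,2⟩) (.leaf ⟨32,[36,32,33,34,35],16,1⟩)) (.leaf ⟨35,[38,35,38,31,32],31,5⟩)))) (.node (.node (.node (.node (.leaf ⟨31,[31],0,1⟩) (.leaf ⟨32,[34,32,34],8,2⟩)) (.node (.leaf ⟨37,[34,37,34,37,34],18,4⟩) (.leaf ⟨35,[31,36,33],13,0⟩))) (.node (.node (.leaf ⟨31,[34,31,34],6,2⟩) (.leaf ⟨34,[36,32,35,33],15,4⟩)) (.leaf ⟨31,[37,33,37,31,37,33,37],21,5⟩))) (.node (.node (.node (.leaf ⟨36,[35],10,1⟩) (.leaf ⟨35,[37,35,37,35,37],19,5⟩)) (.node (.leaf ⟨31,[35,37,32,33,34,37,32,37],24,3⟩) (.leaf ⟨37,[34,37,34,37,34],18,2⟩))) (.node (.node (.leaf ⟨35,[35,35],12,2⟩) (.leaf ⟨34,[38,37,38,32,34,37,38,32,34,37,32],32,11⟩)) (.leaf ⟨33,[36,37,35,34,35,37,31,32],22,7⟩))))) (.node (.node (.node (.node (.node (.leaf ⟨37,[37],17,1⟩) (.leaf ⟨34,[31,34,31],6,3⟩)) (.node (.leaf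 ⟨34,[38,34,38],28,3⟩) (.leaf ⟨38,[32,38,32],27,2⟩))) (.node (.node (.leaf ⟨31,[33,31,33],5,2⟩) (.leaf ⟨35,[37,35,37,35,37],19,3⟩)) (.node (.leaf ⟨31,[37,31,37,31,37,31,37],20,5⟩) (.leaf ⟨38,[31,32,35,38,35],31,2⟩)))) (.node (.node (.node (.leaf ⟨34,[34],3,1⟩) (.leaf ⟨35,[35,35],12,1⟩)) (.node (.leaf ⟨33,[37,33,37,33,37,33,37],23,5⟩) (.leaf ⟨38,[34,38,34],28,2⟩))) (.node (.node (.leaf ⟨33,[34,33,34],9,2⟩) (.leaf ⟨32,[34,37,32,34,38,37,38,32,34,37,38],32,7⟩)) (.leaf ⟨37,[35,37,35,37,35],19,4⟩)))) (.node (.node (.node (.node (.leaf ⟨32,[32],1,1⟩) (.leaf ⟨34,[33,34,33],9,1⟩)) (.node (.leaf ⟨33,[38,33,38,32],29,4⟩) (.leaf ⟨38,[33,38,32,33],29,0⟩))) (.node (.node (.leaf ⟨33,[35,31,36],13,3⟩) (.leaf ⟨34,[35,32,36,32,33],16,5⟩)) (.leaf ⟨32,[37,33,37,31,32,37,33,37],25,3⟩))) (.node (.node (.node (.leaf ⟨35,[36],10,0⟩) (.leaf ⟨32,[37,31,35,37,32,33,34,37],24,1⟩))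 (.node (.leaf ⟨36,[31,35,31,33],14,0⟩) (.leaf ⟨38,[35,38,31,32,35],31,0⟩))) (.node (.node (.leaf ⟨35,[33,34,36,32],15,2⟩) (.leaf ⟨31,[32,31,32],4,0⟩)) (.leaf ⟨34,[37,32,37,31,35,37,32,33],24,8⟩))))))
noncomputable def tc1 : TCL := ⟨[31,32,33,34,35,36,37,38], [31,32,33,34,35,36,37], 21, 20, 0x1ff, 9, 0x3f,
  fun a x => look 0xfffff (nth tc1T 0 a) x, fun x => look 0xfffff tc1d x, tc1r⟩
noncomputable def tc2T : List ℕ := [0,0,0,0,0,0,0,0,0,0,0,0,0,0,0,0,0,0,0,0,0,0,0,0,0,0,0,0,0,0,0,tc2t31,tc2t32,tc2t33,tc2t34,tc2t35,tc2t36,tc2t37]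
noncomputable def tc2r : Tr Rule := (.node (.node (.node (.node (.node (.node (.leaf ⟨37,[37],17,1⟩) (.leaf ⟨33,[37,33,37,33,37,33,37],23,5⟩)) (.node (.leaf ⟨37,[34,37,34,37,34],18,4⟩) (.leaf ⟨35,[37,35,37,35,37],19,3⟩))) (.node (.node (.leaf ⟨31,[33,31,33],5,2⟩) (.leaf ⟨35,[31,36,33],13,0⟩)) (.leaf ⟨34,[32,34,32],8,3⟩))) (.node (.node (.node (.leaf ⟨34,[34],3,1⟩) (.leaf ⟨34,[37,32,37,31,35,37,32,33],24,8⟩)) (.leaf ⟨33,[37,31,37,33,37,31,37],21,3⟩)) (.node (.node (.leaf ⟨32,[34,32,34],8,2⟩) (.leaf ⟨32,[37,33,37,31,32,37,33,37],25,3⟩)) (.leaf ⟨33,[34,33,34],9,0⟩)))) (.node (.node (.node (.node (.leaf ⟨32,[32],1,1⟩) (.leaf ⟨32,[33,34,37,32,37,31,35,37],24,6⟩)) (.leaf ⟨31,[37,31,37,31,37,31,37],20,5⟩)) (.node (.node (.leaf ⟨33,[35,31,36],13,3⟩) (.leaf ⟨34,[37,34,37,34,37],18,3⟩)) (.leaf ⟨31,[34,31,34],6,0⟩))) (.node (.node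 (.node (.leaf ⟨35,[36],10,0⟩) (.leaf ⟨32,[37,31,35,37,32,33,34,37],24,1⟩)) (.leaf ⟨34,[35,37,31,32,33,36,37,35],22,2⟩)) (.node (.node (.leaf ⟨35,[35,35],12,2⟩) (.leaf ⟨34,[36,32,35,33],15,4⟩)) (.leaf ⟨36,[32,33,34,35,32],16,2⟩))))) (.node (.node (.node (.node (.node (.leaf ⟨31,[31],0,1⟩) (.leaf ⟨33,[37,33,37,33,37,33,37],23,3⟩)) (.leaf ⟨37,[35,37,35,37,35],19,4⟩)) (.node (.node (.leaf ⟨31,[34,31,34],6,2⟩) (.leaf ⟨37,[35,34,35,37,31,32,33,36],22,0⟩)) (.leaf ⟨36,[33,35,31],13,2⟩))) (.node (.node (.node (.leaf ⟨36,[35],10,1⟩) (.leaf ⟨35,[37,32,33,34,37,32,37,31],24,4⟩)) (.leaf ⟨33,[36,37,35,34,35,37,31,32],22,7⟩)) (.node (.node (.leaf ⟨33,[34,33,34],9,2⟩) (.leaf ⟨37,[32,37,33,37,31,32,37,33],25,2⟩)) (.leaf ⟨35,[31,33,36,31],14,2⟩)))) (.node (.node (.node (.node (.leaf ⟨33,[33],2,1⟩) (.leaf ⟨31,[35,37,32,33,34,37,32,37],24,3⟩))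 (.leaf ⟨31,[37,33,37,31,37,33,37],21,5⟩)) (.node (.node (.leaf ⟨32,[33,32,33],7,2⟩) (.leaf ⟨37,[31,32,37,33,37,32,37,33],25,6⟩)) (.leaf ⟨32,[34,32,34],8,0⟩))) (.node (.node (.node (.leaf ⟨31,[32,31,32],4,2⟩) (.leaf ⟨33,[32,33,32],7,3⟩)) (.leaf ⟨34,[33,34,33],9,3⟩)) (.node (.node (.leaf ⟨35,[33,34,36,32],15,2⟩) (.leaf ⟨34,[35,32,36,32,33],16,5⟩)) (.leaf ⟨35,[35,35],12,1⟩))))))
noncomputable def tc2 : TCL := ⟨[31,32,33,34,35,36,37], [31,32,33,34,35,36], 20, 20, 0x1ff, 9, 0x3f,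
  fun a x => look 0xfffff (nth tc2T 0 a) x, fun x => look 0xfffff tc2d x, tc2r⟩
noncomputable def tc3T : List ℕ := [0,0,0,0,0,0,0,0,0,0,0,0,0,0,0,0,0,0,0,0,0,0,0,0,0,0,0,0,0,0,0,tc3t31,tc3t32,tc3t33,tc3t34,tc3t35,tc3t36]
noncomputable def tc3r : Tr Rule := (.node (.node (.node (.node (.leaf ⟨36,[35],10,1⟩) (.leaf ⟨32,[35,33,34,36],15,1⟩)) (.leaf ⟨31,[36,33,35],13,1⟩)) (.node (.node (.leaf ⟨35,[35,35],12,2⟩) (.leaf ⟨32,[33,34,35,32,36],16,3⟩)) (.leaf ⟨31,[35,31,33,36],14,1⟩))) (.node (.node (.node (.leaf ⟨35,[36],10,0⟩) (.leaf ⟨34,[35,32,36,32,33],16,5⟩)) (.leaf ⟨33,[36,31,35,31],14,4⟩)) (.node (.leaf ⟨33,[35,31,36],13,3⟩) (.leaf ⟨34,[36,32,35,33],15,4⟩))))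
noncomputable def tc3 : TCL := ⟨[31,32,33,34,35,36], [31,32,33,34], 3, 16, 0x3f, 6, 0xf,
  fun a x => look 0xffff (nth tc3T 0 a) x, fun x => look 0xffff tc3d x, tc3r⟩
noncomputable def tc4T : List ℕ := [0,0,0,0,0,0,0,0,0,0,0,0,0,0,0,0,0,0,0,0,0,0,0,0,0,0,0,0,0,0,0,tc4t31,tc4t32,tc4t33,tc4t34]
noncomputable def tc4r : Tr Rule := (.node (.node (.node (.node (.leaf ⟨31,[31],0,1⟩) (.leaf ⟨32,[34,32,34],8,2⟩)) (.leaf ⟨31,[32,31,32],4,2⟩)) (.node (.leaf ⟨33,[33],2,1⟩) (.leaf ⟨31,[34,31,34],6,2⟩))) (.node (.node (.node (.leaf ⟨32,[32],1,1⟩) (.leaf ⟨33,[34,33,34],9,2⟩)) (.leaf ⟨31,[33,31,33],5,2⟩)) (.node (.leaf ⟨34,[34],3,1⟩) (.leaf ⟨32,[33,32,33],7,2⟩))))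
noncomputable def tc4 : TCL := ⟨[31,32,33,34], [], 16, 20, 0x1ff, 9, 0xf,
  fun a x => look 0xfffff (nth tc4T 0 a) x, fun x => look 0xfffff tc4d x, tc4r⟩
noncomputable def tc : List TCL := [tc0, tc1, tc2, tc3, tc4]
noncomputable def inW : List (List ℕ) := [[33,32,37,38,33,32,37,36,34,31],
  [32,37,38,39,31,37,38,37,35,34,33,32,31],
  [34,37,38,39,34,37,38,32,31,37,36,34,33,31]]
noncomputable def tcS : List ℕ := [31,32,33,34,35,36,37,38,39]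

end Cfsg.Agent.CG.M22
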