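import Cfsg.Agent.Lib.Grp.M22.ODefs

set_option autoImplicit false
set_option maxRecDepth 100000

namespace Cfsg.Agent.CG.M22

theorem Oc120 : cc0.chk (appT tabs t58 0xff) 1 15 = true := by decide +kernel
theorem Oc121 : cc1.chk (appT tabs t58 0xff) 1 5 = true := by decide +kernel
theorem Oc122 : cc2.chk (appT tabs t58 0xff) 1 3 = true := by decide +kernel
theorem Oc123 : okcb 22 8 (bases cc) = true := by decide +kernel
theorem Oc124 : headAll (appT tabs t58 0xff) cc [] = true := by decide +kernel
theorem Oc125 : tp0.head tpR = true := by decide +kernel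
theorem Oc126 : allL (fun a => tp0.chk a 0 tp0.N) tp0.S = true := by decide +kernel
theorem Oc127 : tp1.head tpR = true := by decide +kernel
theorem Oc128 : allL (fun a => tp1.chk a 0 tp1.N) tp1.S = true := by decide +kernel
theorem Oc129 : tp2.head tpR = true := by decide +kernel
theorem Oc130 : allL (fun a => tp2.chk a 0 tp2.N) tp2.S = true := by decide +kernel
theorem Oc131 : tcLink tp [] [40,41,42,43] = true := by decide +kernel
theorem Oc132 : pc0.chk (appT tabs t58 0xff) 1 15 = true := by decide +kernel
theorem Oc133 : pc1.chk (appT tabs t58 0xff) 1 1 = true := by decide +kernel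
theorem Oc134 : pc2.chk (appT tabs t58 0xff) 1 3 = true := by decide +kernel
theorem Oc135 : okcb 22 8 (bases pc) = true := by decide +kernel
theorem Oc136 : headAll (appT tabs t58 0xff) pc [] = true := by decide +kernel
theorem Oc137 : allL (fun v => eqW (appT tabs t58 0xff) bs v []) tpR = true := by decide +kernel
theorem Oc138 : trChk (appT tabs t58 0xff) mc0 [mc1, mc2, mc3, mc4] bs (diagQ pQ) (diagQ pR) pF 0 22 = true := by decide +kernel
theorem Oc139 : classChk (appT tabs t58 0xff) bs 10 2 44 [13,13,19,18,23,22] pS pF pU = true := by decide +kernel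
theorem Oc140 : powChk (appT tabs t58 0xff) bs 8 11 aK nK = true := by decide +kernel
theorem Oc141 : en.chk (appT tabs t58 0xff) tst 0 1155 0 724239915073 = true := by decide +kernel
theorem Oc142 : commAll (appT tabs t58 0xff) bs 10 cc = true := by decide +kernel
theorem Oc143 : relChk (appT tabs t58 0xff) bs 8 10 rT = true := by decide +kernel
theorem Oc144 : eqW (appT tabs t58 0xff) bs (substW img [31,31]) [] = true := by decide +kernel
theorem Oc145 : eqW (appT tabs t58 0xff) bs (substW img [32,32]) [] = true := by decide +kernel
theorem Oc146 : eqW (appT tabs t58 0xff) bs (substW img [33,33]) [] = true := by decide +kernel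
theorem Oc147 : eqW (appT tabs t58 0xff) bs (substW img [34,34]) [] = true := by decide +kernel
theorem Oc148 : eqW (appT tabs t58 0xff) bs (substW img [31,32,31,32]) [] = true := by decide +kernel
theorem Oc149 : eqW (appT tabs t58 0xff) bs (substW img [31,33,31,33]) [] = true := by decide +kernel
theorem Oc150 : eqW (appT tabs t58 0xff) bs (substW img [31,34,31,34]) [] = true := by decide +kernel
theorem Oc151 : eqW (appT tabs t58 0xff) bs (substW img [32,33,32,33]) [] = true := by decide +kernel
theorem Oc152 : eqW (appT tabs t58 0xff) bs (substW img [32,34,32,34]) [] = true := by decide +kernel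
theorem Oc153 : eqW (appT tabs t58 0xff) bs (substW img [33,34,33,34]) [] = true := by decide +kernel
theorem Oc154 : eqW (appT tabs t58 0xff) bs (substW img [35,36]) [] = true := by decide +kernel
theorem Oc155 : eqW (appT tabs t58 0xff) bs (substW img [36,35]) [] = true := by decide +kernel
theorem Oc156 : eqW (appT tabs t58 0xff) bs (substW img [35,35,35]) [] = true := by decide +kernel
theorem Oc157 : eqW (appT tabs t58 0xff) bs (substW img [35,31,36,33]) [] = true := by decide +kernel
theorem Oc158 : eqW (appT tabs t58 0xff) bs (substW img [36,31,35,31,33]) [] = true := by decide +kernel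
theorem Oc159 : eqW (appT tabs t58 0xff) bs (substW img [36,32,35,33,34]) [] = true := by decide +kernel
theorem Oc160 : eqW (appT tabs t58 0xff) bs (substW img [35,32,36,32,33,34]) [] = true := by decide +kernel
theorem Oc161 : eqW (appT tabs t58 0xff) bs (substW img [37,37]) [] = true := by decide +kernel
theorem Oc162 : eqW (appT tabs t58 0xff) bs (substW img [37,34,37,34,37,34]) [] = true := by decide +kernel
theorem Oc163 : eqW (appT tabs t58 0xff) bs (substW img [37,35,37,35,37,35]) [] = true := by decide +kernel
theorem Oc164 : eqW (appT tabs t58 0xff) bs (substW img [37,31,37,31,37,31,37,31]) [] = true := by decide +kernel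
theorem Oc165 : eqW (appT tabs t58 0xff) bs (substW img [37,31,37,33,37,31,37,33]) [] = true := by decide +kernel
theorem Oc166 : eqW (appT tabs t58 0xff) bs (substW img [37,35,34,35,37,31,32,33,36]) [] = true := by decide +kernel
theorem Oc167 : eqW (appT tabs t58 0xff) bs (substW img [37,33,37,33,37,33,37,33]) [] = true := by decide +kernel
theorem Oc168 : eqW (appT tabs t58 0xff) bs (substW img [37,32,37,31,35,37,32,33,34]) [] = true := by decide +kernel
theorem Oc169 : eqW (appT tabs t58 0xff) bs (substW img [37,33,37,32,37,33,37,31,32]) [] = true := by decide +kernel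
theorem Oc170 : eqW (appT tabs t58 0xff) bs (substW img [38,38]) [] = true := by decide +kernel
theorem Oc171 : eqW (appT tabs t58 0xff) bs (substW img [38,32,38,32]) [] = true := by decide +kernel
theorem Oc172 : eqW (appT tabs t58 0xff) bs (substW img [38,34,38,34]) [] = true := by decide +kernel
theorem Oc173 : eqW (appT tabs t58 0xff) bs (substW img [38,33,38,32,33]) [] = true := by decide +kernel
theorem Oc174 : eqW (appT tabs t58 0xff) bs (substW img [38,31,38,31,32,34]) [] = true := by decide +kernel
theorem Oc175 : eqW (appT tabs t58 0xff) bs (substW img [38,35,38,31,32,35]) [] = true := by decide +kernel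
theorem Oc176 : eqW (appT tabs t58 0xff) bs (substW img [38,37,38,32,34,37,38,32,34,37,32,34]) [] = true := by decide +kernel
theorem Oc177 : eqW (appT tabs t58 0xff) bs (substW img [39,39]) [] = true := by decide +kernel
theorem Oc178 : eqW (appT tabs t58 0xff) bs (substW img [39,31,39,31]) [] = true := by decide +kernel
theorem Oc179 : eqW (appT tabs t58 0xff) bs (substW img [39,34,39,34]) [] = true := by decide +kernel
theorem Oc180 : eqW (appT tabs t58 0xff) bs (substW img [39,33,39,31,33]) [] = true := by decide +kernel
theorem Oc181 : eqW (appT tabs t58 0xff) bs (substW img [39,36,39,33,36]) [] = true := by decide +kernel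
theorem Oc182 : eqW (appT tabs t58 0xff) bs (substW img [39,37,39,31,37,31]) [] = true := by decide +kernel
theorem Oc183 : eqW (appT tabs t58 0xff) bs (substW img [39,38,39,38,39,34,38]) [] = true := by decide +kernel
theorem Oc184 : trChk (appT tabs t58 0xff) mc0 [mc1, mc2, mc3, mc4] bs (pairQ 8 10 55 57 nQ) (pairQ 8 10 55 57 [[0], [1]]) [] 0 22 = true := by decide +kernel

end Cfsg.Agent.CG.M22
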