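import Cfsg.Agent.Lib.Grp.M22.OD1
import Cfsg.Agent.Lib.Grp.M22.Defs

set_option autoImplicit false
set_option maxRecDepth 100000

namespace Cfsg.Agent.CG.M22

noncomputable def cc0 : Lvl := ⟨8, [45,46,47,48], 16,
  fun i => look 0xff cc0c (Nat.mul 8 i), fun i => look 0xff cc0p (Nat.mul 8 i),
  fun i => look 255 cc0l (Nat.mul 8 i), fun i => look 255 cc0i (Nat.mul 8 i), fun x => look 0xff cc0q x, 4⟩
noncomputable def cc1 : Lvl := ⟨136, [49,50,51,52], 6,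
  fun i => look 0xff cc1c (Nat.mul 8 i), fun i => look 0xf cc1p (Nat.mul 4 i),
  fun i => look 255 cc1l (Nat.mul 8 i), fun i => look 255 cc1i (Nat.mul 8 i), fun x => look 0xff cc1q x, 2⟩
noncomputable def cc2 : Lvl := ⟨96, [53,54], 4,
  fun i => look 0xff cc2c (Nat.mul 8 i), fun i => look 0xf cc2p (Nat.mul 4 i),
  fun i => look 255 cc2l (Nat.mul 8 i), fun i => look 255 cc2i (Nat.mul 8 i), fun x => look 0xff cc2q x, 2⟩
noncomputable def cc : List Lvl := [cc0, cc1, cc2]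
noncomputable def pc0 : Lvl := ⟨8, [40,41,42,43], 16,
  fun i => look 0xff pc0c (Nat.mul 8 i), fun i => look 0xff pc0p (Nat.mul 8 i),
  fun i => look 255 pc0l (Nat.mul 8 i), fun i => look 255 pc0i (Nat.mul 8 i), fun x => look 0xff pc0q x, 4⟩
noncomputable def pc1 : Lvl := ⟨96, [42], 2,
  fun i => look 0xff pc1c (Nat.mul 8 i), fun i => look 0xf pc1p (Nat.mul 4 i),
  fun i => look 255 pc1l (Nat.mul 8 i), fun i => look 255 pc1i (Nat.mul 8 i), fun x => look 0xff pc1q x, 1⟩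
noncomputable def pc2 : Lvl := ⟨48, [40,41], 4,
  fun i => look 0xff pc2c (Nat.mul 8 i), fun i => look 0xf pc2p (Nat.mul 4 i),
  fun i => look 255 pc2l (Nat.mul 8 i), fun i => look 255 pc2i (Nat.mul 8 i), fun x => look 0xff pc2q x, 2⟩
noncomputable def pc : List Lvl := [pc0, pc1, pc2]
noncomputable def tpR : List (List ℕ) := [[40,40],
  [41,41],
  [40,41,40,41],
  [42,42],
  [42,40,42,40],
  [42,41,42,40,41],
  [43,43],
  [43,40,43,40,43,40,43,40],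
  [43,41,43,40,43,41,43,40],
  [43,41,43,41,43,41,43,41],
  [43,42,43,42,43,42,43,42],
  [43,41,43,42,43,41,43,40,42],
  [43,41,42,43,40,43,42,43,40,41]]
noncomputable def tp0T : List ℕ := [0,0,0,0,0,0,0,0,0,0,0,0,0,0,0,0,0,0,0,0,0,0,0,0,0,0,0,0,0,0,0,0,0,0,0,0,0,0,0,0,tp0t40,tp0t41,tp0t42,tp0t43]
noncomputable def tp0r : Tr Rule := (.node (.node (.node (.node (.node (.leaf ⟨43,[43],6,1⟩) (.leaf ⟨42,[43,41,43,40,42,43,41,43],11,3⟩)) (.leaf ⟨42,[40,42,40],4,0⟩)) (.node (.leaf ⟨40,[41,40,41],2,2⟩) (.leaf ⟨41,[43,41,43,41,43,41,43],9,5⟩))) (.node (.node (.node (.leaf ⟨41,[41],1,1⟩) (.leaf ⟨40,[43,42,43,40,41,43,41,42,43],12,4⟩)) (.leaf ⟨41,[43,40,43,41,43,40,43],8,5⟩)) (.node (.leaf ⟨41,[42,40,41,42],5,1⟩) (.leaf ⟨42,[43,42,43,42,43,42,43],10,5⟩)))) (.node (.node (.node (.node (.leaf ⟨40,[40],0,1⟩) (.leaf ⟨42,[43,40,41,43,41,42,43,40,43],12,6⟩)) (.leaf ⟨40,[43,40,43,40,43,40,43],7,5⟩))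 (.node (.leaf ⟨40,[42,40,42],4,3⟩) (.leaf ⟨41,[43,41,43,41,43,41,43],9,3⟩))) (.node (.node (.node (.leaf ⟨42,[42],3,1⟩) (.leaf ⟨42,[43,40,43,42,43,40,41,43,41],12,2⟩)) (.leaf ⟨40,[43,41,43,40,43,41,43],8,3⟩)) (.node (.leaf ⟨40,[41,40,41],2,0⟩) (.leaf ⟨41,[43,40,42,43,41,43,42,43],11,5⟩)))))
noncomputable def tp0 : TCL := ⟨[40,41,42,43], [40,41,42], 16, 20, 0x1ff, 9, 0x1f,
  fun a x => look 0xfffff (nth tp0T 0 a) x, fun x => look 0xfffff tp0d x, tp0r⟩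
noncomputable def tp1T : List ℕ := [0,0,0,0,0,0,0,0,0,0,0,0,0,0,0,0,0,0,0,0,0,0,0,0,0,0,0,0,0,0,0,0,0,0,0,0,0,0,0,0,tp1t40,tp1t41,tp1t42]
noncomputable def tp1r : Tr Rule := (.node (.node (.leaf ⟨42,[42],3,1⟩) (.leaf ⟨41,[42,41,42,40],5,4⟩)) (.leaf ⟨40,[42,40,42],4,3⟩))
noncomputable def tp1 : TCL := ⟨[40,41,42], [40,41], 2, 16, 0x3f, 6, 0x7,
  fun a x => look 0xffff (nth tp1T 0 a) x, fun x => look 0xffff tp1d x, tp1r⟩
noncomputable def tp2T : List ℕ := [0,0,0,0,0,0,0,0,0,0,0,0,0,0,0,0,0,0,0,0,0,0,0,0,0,0,0,0,0,0,0,0,0,0,0,0,0,0,0,0,tp2t40,tp2t41]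
noncomputable def tp2r : Tr Rule := (.node (.node (.leaf ⟨40,[40],0,1⟩) (.leaf ⟨40,[41,40,41],2,2⟩)) (.leaf ⟨41,[41],1,1⟩))
noncomputable def tp2 : TCL := ⟨[40,41], [], 4, 16, 0x7f, 7, 0x7,
  fun a x => look 0xffff (nth tp2T 0 a) x, fun x => look 0xffff tp2d x, tp2r⟩
noncomputable def tp : List TCL := [tp0, tp1, tp2]
noncomputable def pS : List ℕ := [40,41,42,43]
noncomputable def pQ : List (List ℕ) := [[],
  [43,41,43],
  [43,41,40,43],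
  [43,40,43],
  [43,42,43]]
noncomputable def pR : List (List ℕ) := [[40],
  [41],
  [42],
  [43]]
noncomputable def pF : List (List ℕ) := [[],
  [16,8,17,20,17,22,24,22,26,29,27]]
noncomputable def pU : List (List ℕ) := [[9,13,18,21,21,26,29,28]]
noncomputable def aK : List ℕ := [8,55]
noncomputable def nK : List (List ℕ × ℕ) := [([],0),
  ([],8),
  ([],55),
  ([13,13,24,22,28,27],8),
  ([15,8,20,20,24,29,27],8),
  ([15,9,17,17,21,24,21,25,30,28,27],8),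
  ([13,13,24,22,28,27],55),
  ([9,16,19,17,17,21,21,25,29,27],55),
  ([15,8,20,20,24,29,27],55),
  ([9,16,19,17,17,21,21,25,29,27],8),
  ([15,9,17,17,21,24,21,25,30,28,27],55)]
noncomputable def rT : List (List ℕ × ℕ) := [([0,1,0,1,0,1,0,1],40),
  ([0,1,0,1,0,1,0,1],96),
  ([0,1,0,1,0,1,0,1],8),
  ([0,1,0,1,0,1,0,1],88),
  ([0,0,0,1,0,0,0,1,0,0,0,1,0,0,0,1,0,0,0,1,0,0,0,1,0,0,0,1],8),
  ([0,0,0,1,0,0,1,0,1,0,0,0,1,0,0,1,0,1,0,0,0,1,0,0,1,0,1,0,0,0,1,0,0,1,0,1,0,0,0,1,0,0,1,0,1],136)]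
noncomputable def uu : List (List ℕ) := [[],
  [8],
  [8,8],
  [9],
  [9,16,18,20,22],
  [10,8,20,17,22,24,21,26,30,29],
  [13,13,17,20,17,22,26,29,28,27],
  [14,19,21,24,21,25,30,29,28,27],
  [15,8,19,19,24,26,30,29,27],
  [15,9,29,27],
  [16,18,20,22]]
noncomputable def wT : Tr ℕ := (.node (.leaf w0) (.leaf w1))
noncomputable def en : Enum := ⟨inv, 8, 255, 3, fun i => force (Nat.shiftRight i 10) fun c => look 0xffffff (wT.get c) (Nat.mul 24 (Nat.land i 1023)), 10, [8,136,96,104,48], 256⟩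
noncomputable def tst : (ℕ → ℕ) → Bool := outTest (appT tabs t58 0xff) bs aK rT [(8, 10), (55, 57)] uu
noncomputable def imgL : List (List ℕ) := [[],
  [],
  [],
  [],
  [],
  [],
  [],
  [],
  [],
  [],
  [],
  [],
  [],
  [],
  [],
  [],
  [],
  [],
  [],
  [],
  [],
  [],
  [],
  [],
  [],
  [],
  [],
  [],
  [],
  [],
  [],
  [14,9,17,19,17,24,21,25,30,29,28,27],
  [9,16,17,26,28],
  [8,16,8,18,20,22,23,25,30,28,27],
  [13,13,17,19,23,29,27],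
  [15,8,20,17,24,25,28],
  [9,16,17,22,24,21,25,27],
  [9,16,8,19,18,20,22,22,25,30,29,27],
  [13,13,17,19,23,30,29,28],
  [20,18,24,22,25,28]]
noncomputable def img (a : ℕ) : List ℕ := nth imgL [] a
noncomputable def nQ : List (List ℕ) := [[],
  [0,0,0,1,0,0,0,0],
  [0,1,0,0],
  [0,0,0,0,0],
  [1,0,0]]

end Cfsg.Agent.CG.M22
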