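import Cfsg.Agent.Lib.Grp.M22.OC0
import Cfsg.Agent.Lib.Grp.M22.Main

set_option autoImplicit false
set_option maxRecDepth 100000

namespace Cfsg.Agent.CG.M22

theorem chainC : ChainOK act cc [] :=
  chainOK_of_chk act cc [] (by simp) (okc_of_okcb Oc123) Oc124
  (allL_cons Oc120 (allL_cons Oc121 (allL_cons Oc122 (allL_nil _))))

theorem chainP : ChainOK act pc [] :=
  chainOK_of_chk act pc [] (by simp) (okc_of_okcb Oc135) Oc136
  (allL_cons Oc132 (allL_cons Oc133 (allL_cons Oc134 (allL_nil _))))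

theorem boundsP : Bounds tpR pS (2 ^ 7) :=
  (show prodTC tp = 2 ^ 7 by decide +kernel) ▸ bounds_of_chain Oc131
  (allL_cons Oc125 (allL_cons Oc127 (allL_cons Oc129 (allL_nil _))))
  (allL_cons Oc126 (allL_cons Oc128 (allL_cons Oc130 (allL_nil _))))

theorem cardP : Nat.card (cl act.gen pS) = 2 ^ 7 :=
  card_cl_eq chainP (by decide +kernel) boundsP (base.rels Oc137) (by decide +kernel)

theorem centP : ∀ g ∈ Subgroup.centralizer (cl act.gen pS : Set PG), ∃ φ ∈ pF, g = ev act.gen φ :=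
  centralizer_subset (l := mc0) (L := [mc1, mc2, mc3, mc4]) chain card_le base (Q := pQ) (Rf := pR) (by decide +kernel) (by decide +kernel) (by decide +kernel)
    Oc138

theorem autT (φ : MulAut PG) : ∃ g : PG, φ (act.gen 10) = g * act.gen 10 * g⁻¹ :=
  aut_class base (r := 2) (by norm_num) cardP (not_dvd_of_eq card (by decide +kernel)) centP
    Oc139 φ

theorem autA (φ : MulAut PG) : ∃ g : PG, ∃ a' ∈ aK, g * φ (act.gen 8) * g⁻¹ = act.gen a' :=
  aut_pow base (p := 11) (by norm_num) (not_dvd_of_eq card (by decide +kernel))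
    Oc140 φ

theorem enumOK : en.OK app tst 0 1155 0 724239915073 :=
  (Enum.ok_of_chk Oc141)

theorem cent_le : prodN cc ≤ Nat.card (Subgroup.centralizer {act.gen 10}) :=
  le_card_centralizer base chainC Oc142

theorem classAll (g : PG) : ∃ f, act.Rep (g * act.gen 10 * g⁻¹) f ∧ tst f = true :=
  Enum.OK.all (A := act) (E := en) enumOK hinv (okc_of_okcb (n := 22) (w := 8) (by decide +kernel)) cent_le
    (card ▸ (ble_iff _ _).1 (by decide +kernel)) g

theorem autPair (φ : MulAut PG) : ∃ s ∈ [(8, 10), (55, 57)], ∃ g : PG, φ (act.gen 8) = g * act.gen s.1 * g⁻¹ ∧ φ (act.gen 10) = g * act.gen s.2 * g⁻¹ :=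
  aut_pair base Oc143 (okc_of_okcb (n := 22) (w := 8) (by decide +kernel)) autA autT classAll φ

theorem sigma : ∃ σ : MulAut PG, σ (act.gen 8) = act.gen 55 ∧ σ (act.gen 10) = act.gen 57 :=
  exists_aut' base bounds rels clS card.ge (img := img)
    (allL_cons Oc144 (allL_cons Oc145 (allL_cons Oc146 (allL_cons Oc147 (allL_cons Oc148 (allL_cons Oc149 (allL_cons Oc150 (allL_cons Oc151 (allL_cons Oc152 (allL_cons Oc153 (allL_cons Oc154 (allL_cons Oc155 (allL_cons Oc156 (allL_cons Oc157 (allL_cons Oc158 (allL_cons Oc159 (allL_cons Oc160 (allL_cons Oc161 (allL_cons Oc162 (allL_cons Oc163 (allL_cons Oc164 (allL_cons Oc165 (allL_cons Oc166 (allL_cons Oc167 (allL_cons Oc168 (allL_cons Oc169 (allL_cons Oc170 (allL_cons Oc171 (allL_cons Oc172 (allL_cons Oc173 (allL_cons Oc174 (allL_cons Oc175 (allL_cons Oc176 (allL_cons Oc177 (allL_cons Oc178 (allL_cons Oc179 (allL_cons Oc180 (allL_cons Oc181 (allL_cons Oc182 (allL_cons Oc183 (allL_nil _)))))))))))))))))))))))))))))))))))))))))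
    clAT (va := [37,38,39,32,37,38,37,31,37,35,34,33,32,31]) (vt := [35,31,37,38,37,36,33]) (wa := [34,37,38,39,37,33,37,38,34,33,37,35,33,31]) (wt := [32,37,38,39,38,34,37,36,34,33,31]) (by decide +kernel) (by decide +kernel)

theorem card_out : Nat.card (Out PG) = 2 := by
  obtain ⟨σ, h1, h2⟩ := sigma
  exact card_out_eq_two clAT σ h1 h2 (not_conj_pair (l := mc0) (L := [mc1, mc2, mc3, mc4]) chain card_le base (Q := nQ) (Rf := [[0], [1]]) (by decide +kernel)
    Oc184) autPair

end Cfsg.Agent.CG.M22
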